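import Cfsg.Agent.Lib.Fusion.Hyperfocal
import Cfsg.Agent.Lib.Fusion.NormalSubgroup
import Cfsg.Agent.Lib.Transfer.Focal
import Cfsg.Agent.Lib.Transfer.PResidual

/-!
The hyperfocal subgroup theorem for finite groups.
-/
set_option autoImplicit false

namespace CfsgLib.FusionHyperfocal

open Cfsg Cfsg.FusionSystem CfsgLib.Fusion
open scoped commutatorElement

theorem le_of_le_commutator_sup {G : Type*} [Group G] [Group.IsNilpotent G] {N H : Subgroup G} [H.Normal]
    (h : N ≤ ⁅N, (⊤ : Subgroup G)⁆ ⊔ H) : N ≤ H := by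
  have hk : ∀ k, N ≤ (⊤ : Subgroup G).lowerCentralSeries k ⊔ H := by
    intro k
    induction k with
    | zero => simp
    | succ k ih =>
      refine h.trans (sup_le ((Subgroup.commutator_mono ih le_rfl).trans ?_) le_sup_right)
      set L := (⊤ : Subgroup G).lowerCentralSeries k
      have h1 : ⁅L ⊔ H, (⊤ : Subgroup G)⁆ ≤ ⁅L, (⊤ : Subgroup G)⁆ ⊔ H := by
        have e : (L ⊔ H).map (QuotientGroup.mk' H) = L.map (QuotientGroup.mk' H) := by
          rw [Subgroup.map_sup, QuotientGroup.map_mk'_self, sup_bot_eq]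
        have h2 := Subgroup.map_commutator (L ⊔ H) (⊤ : Subgroup G) (QuotientGroup.mk' H)
        rw [e, ← Subgroup.map_commutator] at h2
        have h3 := Subgroup.map_le_iff_le_comap.1 h2.le
        rwa [Subgroup.comap_map_eq, QuotientGroup.ker_mk'] at h3
      refine h1.trans (sup_le_sup_right ?_ _)
      exact le_of_eq rfl
  have hn := Subgroup.lowerCentralSeries_nilpotencyClass (G := G)
  have := hk (Group.nilpotencyClass G)
  rwa [hn, bot_sup_eq] at this

variable {G : Type*} [Group G] [Finite G] {p : ℕ} [Fact p.Prime]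

/-- `O^p(Aut_F(P))` is induced by `O^p(G)`. -/
theorem pResidual_autGroup_le (S : Subgroup G) {P : Subgroup G} (hP : P ≤ S) :
    (pResidual p ((groupFusionSystem S).autGroup P)).map ((groupFusionSystem S).autGroup P).subtype ≤
      autInducedBy (pResidual p G) P := by
  have : Finite (MulAut P) := finite_mulAut
  let c : Subgroup.normalizer (P : Set G) →* (groupFusionSystem S).autGroup P :=
    P.normalizerMonoidHom.codRestrict _ fun g => by
      rw [group_autGroup_eq hP]
      exact mem_autInducedBy_iff.2 ⟨g, Subgroup.mem_top _, fun x => rfl⟩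
  have hc : Function.Surjective c := by
    rintro ⟨α, hα⟩
    rw [group_autGroup_eq hP] at hα
    obtain ⟨g, hgN, -, rfl⟩ := exists_eq_conjAut hα
    exact ⟨⟨g, hgN⟩, Subtype.ext (MulEquiv.ext fun x => rfl)⟩
  rintro _ ⟨α, hα, rfl⟩
  rw [← CfsgLib.Transfer.map_pResidual_of_surjective c hc] at hα
  obtain ⟨g, hg, rfl⟩ := hα
  exact mem_autInducedBy_iff.2 ⟨g, CfsgLib.Transfer.map_subtype_pResidual_le _ ⟨g, hg, rfl⟩, fun x => rfl⟩

/-- The hyperfocal subgroup theorem. -/
theorem hyperfocal_eq (S : Sylow p G) :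
    (groupFusionSystem (S : Subgroup G)).hyperfocalSubgroup p = (S : Subgroup G) ⊓ pResidual p G := by
  set F := groupFusionSystem (S : Subgroup G)
  have hS : IsPGroup p (S : Subgroup G) := S.2
  have hF : F.IsSaturated p := groupFusionSystem_isSaturated S
  have hKn : (pResidual p G).Normal := CfsgLib.Transfer.pResidual_normal
  refine le_antisymm (le_inf (hyperfocalSubgroup_le_S F p) ((Subgroup.closure_le _).2 ?_)) ?_
  · rintro _ ⟨P, α, x, hP, hα, rfl⟩
    obtain ⟨g, hg, he⟩ := mem_autInducedBy_iff.1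
      (pResidual_autGroup_le (p := p) (S : Subgroup G) hP ⟨α, hα, rfl⟩)
    rw [show (((α : MulAut P) x : P) : G) = g * (x : G) * g⁻¹ from he x,
      show (x : G)⁻¹ * (g * x * g⁻¹) = ((x : G)⁻¹ * g * x) * g⁻¹ by group]
    refine (pResidual p G).mul_mem ?_ ((pResidual p G).inv_mem hg)
    simpa using hKn.conj_mem g hg (x : G)⁻¹
  set K := pResidual p G
  set N := (S : Subgroup G) ⊓ K with hN
  obtain ⟨R, hR⟩ := isSylowIn_inf_normal S K
  set H := F.hyperfocalSubgroup p
  have : Group.IsNilpotent (S : Subgroup G) := hS.isNilpotent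
  have hHn : (H.subgroupOf (S : Subgroup G)).Normal :=
    ⟨fun h hh g => hyperfocalSubgroup_conj_mem F p g.2 hh⟩
  suffices hle : N.subgroupOf (S : Subgroup G) ≤ H.subgroupOf (S : Subgroup G) from
    fun x hx => hle (show (⟨x, hx.1⟩ : (S : Subgroup G)) ∈ N.subgroupOf (S : Subgroup G) from hx)
  refine le_of_le_commutator_sup ?_
  set M := ⁅N.subgroupOf (S : Subgroup G), (⊤ : Subgroup (S : Subgroup G))⁆ ⊔ H.subgroupOf (S : Subgroup G)
  suffices hmap : N ≤ M.map (S : Subgroup G).subtype by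
    intro x hx
    obtain ⟨y, hy, hyx⟩ := hmap hx
    exact (Subtype.ext hyx : y = x) ▸ hy
  intro x hx
  have hxR : (⟨x, hx.2⟩ : K) ∈ (R : Subgroup K) ⊓ pResidual p K := by
    refine ⟨?_, ?_⟩
    · show (⟨x, hx.2⟩ : K) ∈ (R : Subgroup K)
      rw [hR]; exact hx
    · rw [CfsgLib.Transfer.pResidual_pResidual]; trivial
  have hfoc := CfsgLib.Transfer.sylow_inf_pResidual_le_focal R hxR
  suffices hle : (R : Subgroup K).focalSubgroup ≤ (M.map (S : Subgroup G).subtype).comap K.subtype from hle hfoc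
  rw [Subgroup.focalSubgroup_def, Subgroup.closure_le]
  rintro _ ⟨hmem, a, ha, u, rfl⟩
  rw [hR] at hmem ha
  have haS : (a : G) ∈ (S : Subgroup G) := ha.1
  have hu : (u : G) * (a : G)⁻¹ * (u : G)⁻¹ ∈ (S : Subgroup G) := by
    have := (S : Subgroup G).mul_mem ((S : Subgroup G).inv_mem haS) (show ((⁅a, u⁆ : K) : G) ∈ (S : Subgroup G) from hmem.1)
    simpa [commutatorElement_def, mul_assoc] using this
  have hφ : conjHom (Subgroup.zpowers (a : G)⁻¹) (u : G) ∈ F.Hom (Subgroup.zpowers (a : G)⁻¹) := by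
    refine ⟨(Subgroup.zpowers_le).2 ((S : Subgroup G).inv_mem haS), ?_, (u : G), fun y => rfl⟩
    rintro ⟨y, k, rfl⟩
    show (u : G) * ((a : G)⁻¹) ^ k * (u : G)⁻¹ ∈ _
    rw [← conj_zpow]
    exact (S : Subgroup G).zpow_mem hu k
  obtain ⟨s, hs, h⟩ := exists_conj_mod_hyperfocal hS hF hφ
  have h1 := h ⟨(a : G)⁻¹, Subgroup.mem_zpowers _⟩
  let a' : (S : Subgroup G) := ⟨(a : G), haS⟩
  let b' : (S : Subgroup G) := ⟨_, hyperfocalSubgroup_le_S F p h1⟩
  refine ⟨⁅a', ⟨s, hs⟩⁆ * b', M.mul_mem (Subgroup.mem_sup_left (Subgroup.commutator_mem_commutator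
    (show a' ∈ N.subgroupOf (S : Subgroup G) from ha) (Subgroup.mem_top _))) (Subgroup.mem_sup_right h1), ?_⟩
  show (a : G) * s * (a : G)⁻¹ * s⁻¹ * ((s * (a : G)⁻¹ * s⁻¹)⁻¹ * ((u : G) * (a : G)⁻¹ * (u : G)⁻¹)) =
    ((⁅a, u⁆ : K) : G)
  rw [commutatorElement_def, Subgroup.coe_mul, Subgroup.coe_mul, Subgroup.coe_mul, Subgroup.coe_inv,
    Subgroup.coe_inv]
  group

end CfsgLib.FusionHyperfocal
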